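import Mathlib
import Cfsg.Agent.Lib.Narrow.Action
import Cfsg.Agent.Lib.RankTwo.FittingRank

/-!
B & G 5.7: the derived subgroup lies in the Fitting subgroup.
-/

set_option autoImplicit false

namespace Cfsg.Agent.Lib.Narrow

open Subgroup
open scoped commutatorElement

universe u

variable {G : Type u} [Group G] [Finite G]

theorem mem_centralizer_pCore [Group.IsSolvable G] (hodd : Odd (Nat.card G)) {p : ℕ}
    [hp : Fact p.Prime] {E : Subgroup G} (hE : E ≤ fittingSubgroup G)
    (hEe : IsElementaryAbelian p E)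
    (hr : RankLE 2 ↥(fittingSubgroup G ⊓ centralizer (E : Set G))) {q : ℕ} (hq : q.Prime) {x : G}
    (hx : x ∈ commutator G) (hxo : (orderOf x).Coprime q) :
    x ∈ centralizer (pCore q G : Set G) := by
  haveI : Fact q.Prime := ⟨hq⟩
  set R := pCore q G with hRdef
  rcases eq_or_ne R ⊥ with h | h
  · simp [h, Subgroup.mem_centralizer_iff]
  have hR : IsPGroup q R := PSolvable.pCore_isPGroup
  have hd : q ∣ Nat.card G :=
    ((hR.card_eq_or_dvd).resolve_left fun e => h (Subgroup.eq_bot_of_card_eq _ e)).trans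
      (Subgroup.card_subgroup_dvd_card _)
  have hq2 := RankTwo.prime_ne_two hodd hd
  have hN : (⊤ : Subgroup G) ≤ normalizer (R : Set G) := by rw [Subgroup.normalizer_eq_top]
  have hEO : E ≤ pCore p G := fun e he =>
    RankTwo.mem_pCore_of_mem_fitting (hE he) ⟨1, by rw [pow_one]; exact hEe.2 e he⟩
  have hsmall : ∀ B : Subgroup G, B ≤ R → B ≤ centralizer (E : Set G) →
      IsElementaryAbelian q B → Nat.card B ≤ q ^ 2 := fun B hBR hBC hB =>
    OddUniq.pRankLE_iff.mp (hr q hq) B
      (le_inf (hBR.trans (Fitting.pCore_le_fittingSubgroup q)) hBC) hB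
  by_cases hrk : PRankLE q 2 R
  · exact RankTwo.mem_centralizer_of_mem_commutator hR hrk hq2 hN (by rwa [Subgroup.card_top])
      inferInstance hx hxo
  obtain rfl : p = q := by
    by_contra hne
    refine hrk (OddUniq.pRankLE_iff.mpr fun B hBR hB => hsmall B hBR (hBR.trans ?_) hB)
    refine (Fitting.pCore_le_pPrimeCore_of_ne (p := p) fun h => hne h.symm).trans ?_
    refine le_trans ?_ (Subgroup.centralizer_le (SetLike.coe_subset_coe.mpr hEO))
    rw [← Subgroup.commutator_eq_bot_iff_le_centralizer, Subgroup.commutator_comm]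
    exact PSolvable.commutator_pCore_pPrimeCore
  have hEe' : IsElementaryAbelian p (E.subgroupOf R) := ElemAbelian.subgroupOf hEe R
  obtain ⟨E', hE'⟩ := (Set.toFinite
    {B : Subgroup R | IsElementaryAbelian p B ∧ E.subgroupOf R ≤ B}).exists_maximal
    ⟨_, hEe', le_rfl⟩
  obtain ⟨hE'e, hEE'⟩ := hE'.1
  have hmax : ∀ B : Subgroup R, IsElementaryAbelian p B → E' ≤ B → B = E' := fun B hB hle =>
    le_antisymm (hE'.2 ⟨hB, hEE'.trans hle⟩ hle) hle
  have hcard : ∀ B : Subgroup R, IsElementaryAbelian p B →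
      B ≤ centralizer (E.subgroupOf R : Set R) → Nat.card B ≤ p ^ 2 := by
    intro B hB hBC
    rw [← Subgroup.card_map_of_injective R.subtype_injective]
    refine hsmall _ (Subgroup.map_subtype_le _) ?_ (ElemAbelian.map hB R.subtype)
    rintro _ ⟨b, hb, rfl⟩
    rw [Subgroup.mem_centralizer_iff]
    intro e he
    exact congrArg Subtype.val (Subgroup.mem_centralizer_iff.mp (hBC hb) ⟨e, hEO he⟩ he)
  obtain ⟨n, hn⟩ := ElemAbelian.exists_card_eq_pow hE'e
  have hn2 : n ≤ 2 := (Nat.pow_le_pow_iff_right hp.out.one_lt).mp (hn ▸ hcard E' hE'e fun b hb =>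
    Subgroup.mem_centralizer_iff.mpr fun y hy => ElemAbelian.comm hE'e (hEE' hy) hb)
  have hn2' : n = 2 := by
    by_contra hne
    have hE1 : Nat.card E' ≤ p := by
      rw [hn]
      calc p ^ n ≤ p ^ 1 := Nat.pow_le_pow_right hp.out.pos (by omega)
        _ = p := pow_one p
    haveI : Nontrivial R := (Subgroup.nontrivial_iff_ne_bot R).mpr h
    haveI := hR.center_nontrivial
    obtain ⟨z, hz⟩ := exists_prime_orderOf_dvd_card' p
      (((hR.to_subgroup (center R)).card_eq_or_dvd).resolve_left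
        (Finite.one_lt_card (α := center R)).ne')
    have hzp : (z : R) ^ p = 1 := by
      rw [← SubmonoidClass.coe_pow, ← hz, pow_orderOf_eq_one]
      rfl
    have h3 : IsElementaryAbelian p (E' ⊔ zpowers (z : R)) :=
      ElemAbelian.sup hE'e (ElemAbelian.zpowers hzp) fun e _ => by
        rw [Subgroup.mem_centralizer_iff]
        rintro y ⟨k, rfl⟩
        exact (Subgroup.mem_center_iff.mp (zpow_mem z.2 k) e).symm
    have heq : zpowers (z : R) = E' := by
      refine Subgroup.eq_of_le_of_card_ge (le_sup_right.trans (hmax _ h3 le_sup_left).le) ?_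
      rw [Nat.card_zpowers, Subgroup.orderOf_coe, hz]
      exact hE1
    refine hrk fun B hBc hBp => hcard B ⟨hBc, hBp⟩ fun b _ =>
      Subgroup.mem_centralizer_iff.mpr fun y hy => ?_
    have hyc : y ∈ center R := (heq ▸ zpowers_le.mpr z.2 : E' ≤ center R) (hEE' hy)
    exact (Subgroup.mem_center_iff.mp hyc b).symm
  exact mem_centralizer_of_mem_commutator_maxSq
    (⟨hq2, hR, hrk, hE'e, hn2' ▸ hn, hmax⟩ : MaxSq p E') hN hx hxo

end Cfsg.Agent.Lib.Narrow
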